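import Groth.Agent.UnibEtale.Basic
import Mathlib

/-! Geometrically unibranch points and etale morphisms of schemes. -/

set_option autoImplicit false
set_option backward.isDefEq.respectTransparency.types false
universe u

open AlgebraicGeometry CategoryTheory

namespace Groth.Agent.UnibEtale

variable {X Y : Scheme.{u}} (f : X ⟶ Y)

/-- An affine chart on which `f` is etale. -/
theorem exists_etale_chart (x : X) (U : X.Opens) (hxU : x ∈ U) [Etale (U.ι ≫ f)] :
    ∃ (W : Y.Opens) (_ : IsAffineOpen W) (V : X.Opens) (_ : IsAffineOpen V) (hVW : V ≤ f ⁻¹ᵁ W),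
      x ∈ V ∧ V ≤ U ∧ (f.appLE W V hVW).hom.Etale := by
  obtain ⟨W, hW, hxW, -⟩ := exists_isAffineOpen_mem_and_subset (x := f x) (U := ⊤) trivial
  obtain ⟨V, hV, hxV, hVU⟩ := exists_isAffineOpen_mem_and_subset (x := x) (U := f ⁻¹ᵁ W ⊓ U) ⟨hxW, hxU⟩
  have hVW : V ≤ f ⁻¹ᵁ W := fun z hz => (hVU hz).1
  have hVU' : V ≤ U := fun z hz => (hVU hz).2
  refine ⟨W, hW, V, hV, hVW, hxV, hVU', ?_⟩
  haveI : Etale (f.resLE W V hVW ≫ W.ι) := by
    rw [Scheme.Hom.resLE_comp_ι, ← X.homOfLE_ι hVU', Category.assoc]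
    infer_instance
  have h : Etale (f.resLE W V hVW) := Etale.of_comp (f.resLE W V hVW) W.ι
  haveI : IsAffine W.toScheme := hW
  haveI : IsAffine V.toScheme := hV
  rw [HasRingHomProperty.iff_of_isAffine (P := @Etale)] at h
  exact (RingHom.Etale.respectsIso.arrow_mk_iso_iff (arrowResLEAppIso f W V hVW)).mp h

/-- The local ring of a point in an affine chart. -/
noncomputable def stalkEquiv {V : X.Opens} (hV : IsAffineOpen V) {x : X} (hx : x ∈ V) :
    X.presheaf.stalk x ≃+* Localization.AtPrime (hV.primeIdealOf ⟨x, hx⟩).asIdeal :=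
  letI := TopCat.Presheaf.algebra_section_stalk X.presheaf (⟨x, hx⟩ : V)
  haveI : IsLocalization.AtPrime (X.presheaf.stalk x) (hV.primeIdealOf ⟨x, hx⟩).asIdeal :=
    hV.isLocalization_stalk ⟨x, hx⟩
  (IsLocalization.algEquiv (hV.primeIdealOf ⟨x, hx⟩).asIdeal.primeCompl (X.presheaf.stalk x)
    (Localization.AtPrime (hV.primeIdealOf ⟨x, hx⟩).asIdeal)).toRingEquiv

/-- Geometric unibranchness goes up along etale morphisms. -/
theorem stalk_of_etale (x : X) (U : X.Opens) (hxU : x ∈ U) [Etale (U.ι ≫ f)]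
    (hY : CAlg2.IsGeomUnibranch (Y.presheaf.stalk (f x))) :
    CAlg2.IsGeomUnibranch (X.presheaf.stalk x) ∧
      (IsDomain (Y.presheaf.stalk (f x)) → IsDomain (X.presheaf.stalk x)) := by
  obtain ⟨W, hW, V, hV, hVW, hxV, -, hE⟩ := exists_etale_chart f x U hxU
  algebraize [(f.appLE W V hVW).hom]
  let p := (hW.primeIdealOf ⟨f x, hVW hxV⟩).asIdeal
  let q := (hV.primeIdealOf ⟨x, hxV⟩).asIdeal
  have hpq : q.comap (algebraMap Γ(Y, W) Γ(X, V)) = p :=
    congr($(IsAffineOpen.comap_primeIdealOf_appLE W hW V hV hVW hxV).1)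
  obtain ⟨h1, h2⟩ := atPrime_of_etale Γ(Y, W) Γ(X, V) p q hpq
    (isGeomUnibranch_of_ringEquiv (stalkEquiv hW (hVW hxV)) hY)
  refine ⟨isGeomUnibranch_of_ringEquiv (stalkEquiv hV hxV).symm h1, fun hd => ?_⟩
  haveI := h2 (haveI := hd; (stalkEquiv hW (hVW hxV)).symm.toMulEquiv.isDomain _)
  exact (stalkEquiv hV hxV).toMulEquiv.isDomain _

end Groth.Agent.UnibEtale
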