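import Groth.Agent.H23.FinCondSch
import Mathlib

/-! Irreducible components of a flat quasi-finite scheme over an irreducible scheme. -/

set_option autoImplicit false
set_option backward.isDefEq.respectTransparency.types false
universe u

open AlgebraicGeometry CategoryTheory

namespace Groth.Agent.UnibEtale

theorem locallyQuasiFinite_of_formallyUnramified {X Y : Scheme.{u}} (f : X ⟶ Y) [FormallyUnramified f]
    [LocallyOfFiniteType f] : LocallyQuasiFinite f := by
  rw [HasRingHomProperty.iff_appLE (P := @LocallyQuasiFinite)]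
  intro U V e
  have h1 : (f.appLE U V e).hom.FormallyUnramified := HasRingHomProperty.appLE (P := @FormallyUnramified) f ‹_› U V e
  have h2 : (f.appLE U V e).hom.FiniteType := HasRingHomProperty.appLE (P := @LocallyOfFiniteType) f ‹_› U V e
  algebraize [(f.appLE U V e).hom]
  exact (inferInstance : Algebra.QuasiFinite Γ(Y, U) Γ(X, V))

variable {X Y : Scheme.{u}} (f : X ⟶ Y) [Flat f] [LocallyQuasiFinite f] [IrreducibleSpace Y]

theorem map_generic {Z : Set X} (hZ : Z ∈ irreducibleComponents ↥X) {ξ : X} (hξ : IsGenericPoint ξ Z) :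
    f ξ = genericPoint Y := by
  obtain ⟨ξ', h1, h2⟩ := Flat.generalizingMap f (genericPoint_specializes (f ξ))
  have h3 : closure {ξ'} = Z :=
    (hZ.2 isIrreducible_singleton.closure (hξ.def ▸ specializes_iff_closure_subset.1 h1)).antisymm
      (hξ.def ▸ specializes_iff_closure_subset.1 h1)
  rw [← (show IsGenericPoint ξ' Z from h3).eq hξ, h2]

theorem finite_fibre_inter (V : X.Opens) (hV : IsAffineOpen V) (W : Y.Opens) (hW : IsAffineOpen W)
    (hVW : V ≤ f ⁻¹ᵁ W) (y : Y) : ((V : Set X) ∩ f ⁻¹' {y}).Finite := by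
  haveI : IsAffine V.toScheme := hV
  haveI : IsAffine W.toScheme := hW
  by_cases hy : y ∈ W
  · refine (((f.resLE W V hVW).finite_preimage_singleton ⟨y, hy⟩).image V.ι).subset ?_
    rintro z ⟨hzV, hz⟩
    refine ⟨⟨z, hzV⟩, ?_, rfl⟩
    apply W.ι.injective
    show (f.resLE W V hVW ≫ W.ι) ⟨z, hzV⟩ = y
    rw [Scheme.Hom.resLE_comp_ι]
    exact hz
  · refine Set.finite_empty.subset ?_
    rintro z ⟨hzV, hz⟩
    exact hy ((show f z = y from hz) ▸ hVW hzV)

include f in
theorem exists_nhd_finite (x : X) : ∃ V : X.Opens, x ∈ V ∧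
    {Z ∈ irreducibleComponents ↥X | ((V : Set X) ∩ Z).Nonempty}.Finite := by
  obtain ⟨W, hW, hxW, -⟩ := exists_isAffineOpen_mem_and_subset (x := f x) (U := ⊤) trivial
  obtain ⟨V, hV, hxV, hVW⟩ := exists_isAffineOpen_mem_and_subset (x := x) (U := f ⁻¹ᵁ W) hxW
  refine ⟨V, hxV, ((finite_fibre_inter f V hV W hW hVW (genericPoint Y)).image
    fun z => closure {z}).subset ?_⟩
  rintro Z ⟨hZ, z, hzV, hzZ⟩
  have hg := hZ.1.isGenericPoint_genericPoint (isClosed_of_mem_irreducibleComponents _ hZ)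
  refine ⟨_, ⟨?_, map_generic f hZ hg⟩, hg.def⟩
  exact (hg.specializes hzZ).mem_open V.2 hzV

theorem components (hu : ∀ x : X, (nilradical (X.presheaf.stalk x)).IsPrime) :
    (∀ x : X, ∃! Z, Z ∈ irreducibleComponents ↥X ∧ x ∈ Z) ∧
    (∀ Z ∈ irreducibleComponents ↥X, IsOpen Z ∧ ∃! x : X, x ∈ Z ∧ f.base x = genericPoint Y) := by
  have huniq : ∀ (x : X) (Z Z' : Set X), Z ∈ irreducibleComponents ↥X → Z' ∈ irreducibleComponents ↥X →
      x ∈ Z → x ∈ Z' → Z = Z' := fun x _ _ h1 h2 h3 h4 => H23.FinCondSch.unique_component (hu x) h1 h2 h3 h4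
  refine ⟨fun x => ⟨irreducibleComponent x, ⟨irreducibleComponent_mem_irreducibleComponents x,
    mem_irreducibleComponent⟩, fun Z hZ => huniq x _ _ hZ.1 (irreducibleComponent_mem_irreducibleComponents x)
      hZ.2 mem_irreducibleComponent⟩, fun Z hZ => ⟨isOpen_iff_forall_mem_open.2 fun x hx => ?_, ?_⟩⟩
  · obtain ⟨V, hxV, hfin⟩ := exists_nhd_finite f x
    have hfin' := hfin.sdiff (t := {Z})
    refine ⟨(V : Set X) \ ⋃ Z' ∈ {Z' ∈ irreducibleComponents ↥X | ((V : Set X) ∩ Z').Nonempty} \ {Z}, Z',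
      fun z hz => ?_, ?_, ⟨hxV, fun h => ?_⟩⟩
    · by_contra hzZ
      exact hz.2 (Set.mem_biUnion (x := irreducibleComponent z)
        ⟨⟨irreducibleComponent_mem_irreducibleComponents z, z, hz.1, mem_irreducibleComponent⟩,
          fun h => hzZ (h ▸ mem_irreducibleComponent)⟩ mem_irreducibleComponent)
    · exact V.2.sdiff (hfin'.isClosed_biUnion fun Z' hZ' => isClosed_of_mem_irreducibleComponents _ hZ'.1.1)
    · obtain ⟨Z', hZ', hxZ'⟩ := Set.mem_iUnion₂.1 h
      exact hZ'.2 (huniq x _ _ hZ'.1.1 hZ hxZ' hx)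
  · have hg := hZ.1.isGenericPoint_genericPoint (isClosed_of_mem_irreducibleComponents _ hZ)
    refine ⟨_, ⟨hg.mem, map_generic f hZ hg⟩, fun z hz => ?_⟩
    have hd := f.isDiscrete_preimage_singleton (genericPoint Y)
    haveI : DiscreteTopology ↥(f ⁻¹' {genericPoint Y}) := hd.to_subtype
    have hs : (⟨_, map_generic f hZ hg⟩ : ↥(f ⁻¹' {genericPoint Y})) ⤳ ⟨z, hz.2⟩ :=
      (Topology.IsInducing.subtypeVal.specializes_iff).1 (hg.specializes hz.1)
    exact (congrArg Subtype.val hs.eq).symm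

end Groth.Agent.UnibEtale
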