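import Groth.Agent.H23.FinCondSch
import Groth.Prelude.Def_CAlg2
import Mathlib

/-! Integral neighbourhoods of geometrically unibranch points of reduced schemes. -/

set_option autoImplicit false
universe u

open AlgebraicGeometry

namespace Groth.Agent.UnibEtale

theorem exists_integral_nhd {Y : Scheme.{u}} [IsReduced Y]
    (hcomp : LocallyFinite (fun Z : ↥(irreducibleComponents ↥Y) => (Z : Set ↥Y))) (y : Y)
    (hy : CAlg2.IsGeomUnibranch (Y.presheaf.stalk y)) :
    ∃ W₀ : Y.Opens, y ∈ W₀ ∧ IsIntegral W₀.toScheme := by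
  have hu : (nilradical (Y.presheaf.stalk y)).IsPrime :=
    (Ideal.Quotient.isDomain_iff_prime _).1 hy.1.1
  let C := irreducibleComponent y
  obtain ⟨N, hN, hfin⟩ := hcomp y
  obtain ⟨O, hON, hO, hyO⟩ := mem_nhds_iff.1 hN
  let T := {Z : ↥(irreducibleComponents ↥Y) | ((Z : Set ↥Y) ∩ N).Nonempty ∧ (Z : Set ↥Y) ≠ C}
  have hT : T.Finite := hfin.subset fun Z hZ => hZ.1
  let W : Set Y := O \ ⋃ Z ∈ T, (Z : Set ↥Y)
  have hW : IsOpen W := hO.sdiff (hT.isClosed_biUnion fun Z _ => isClosed_of_mem_irreducibleComponents _ Z.2)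
  have hyW : y ∈ W := by
    refine ⟨hyO, fun h => ?_⟩
    obtain ⟨Z, hZ, hyZ⟩ := Set.mem_iUnion₂.1 h
    exact hZ.2 (H23.FinCondSch.unique_component hu Z.2 (irreducibleComponent_mem_irreducibleComponents y) hyZ
      mem_irreducibleComponent)
  have hWC : W ⊆ C := by
    intro w hw
    by_contra hwC
    refine hw.2 (Set.mem_biUnion (x := ⟨irreducibleComponent w, irreducibleComponent_mem_irreducibleComponents w⟩)
      ⟨⟨w, mem_irreducibleComponent, hON hw.1⟩, fun h => hwC ?_⟩ mem_irreducibleComponent)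
    rw [show C = irreducibleComponent w from h.symm]
    exact mem_irreducibleComponent
  let W₀ : Y.Opens := ⟨W, hW⟩
  haveI : IrreducibleSpace W₀.toScheme :=
    haveI : PreirreducibleSpace W₀.toScheme :=
      Subtype.preirreducibleSpace ((irreducibleComponent_mem_irreducibleComponents y).1.isPreirreducible.open_subset hW hWC)
    { toNonempty := ⟨⟨y, hyW⟩⟩ }
  haveI : IsReduced W₀.toScheme := isReduced_of_isOpenImmersion W₀.ι
  exact ⟨W₀, hyW, isIntegral_of_irreducibleSpace_of_isReduced _⟩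

end Groth.Agent.UnibEtale
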