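import Groth.Agent.UnibEtale.Chart
import Mathlib

/-! An unramified algebra over a geometrically unibranch domain, injective at a point, is etale there. -/

set_option autoImplicit false
universe u

open scoped TensorProduct

namespace Groth.Agent.UnibEtale

theorem unramified_point (R S : Type u) [CommRing R] [CommRing S] [Algebra R S] [Algebra.FiniteType R S]
    (Q : Ideal S) [Q.IsPrime] [Algebra.IsUnramifiedAt R Q] (p : Ideal R) [p.IsPrime]
    (hpQ : p = Q.comap (algebraMap R S)) (hd : IsDomain (Localization.AtPrime p))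
    (hA : CAlg2.IsGeomUnibranch (Localization.AtPrime p))
    (hinj : Function.Injective (Localization.localRingHom p Q (algebraMap R S) hpQ)) :
    ∃ (f : S) (_ : f ∉ Q) (P : StandardEtalePair R) (φ : P.Ring →ₐ[R] Localization.Away f) (q' : Ideal P.Ring)
      (_ : q'.IsPrime),
      Function.Surjective φ ∧ (∀ e, φ e = 0 → algebraMap P.Ring (Localization.AtPrime q') e = 0) ∧
      q'.comap (algebraMap R P.Ring) = p ∧
      (∀ (e : P.Ring) (s : S) (k : ℕ), φ e * algebraMap S (Localization.Away f) (f ^ k) =
          algebraMap S (Localization.Away f) s → (s ∈ Q ↔ e ∈ q')) ∧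
      IsDomain (Localization.AtPrime Q) ∧ CAlg2.IsGeomUnibranch (Localization.AtPrime Q) ∧
      Algebra.FormallySmooth R (Localization.AtPrime Q) := by
  obtain ⟨f, hf, P, φ, hφ⟩ := Algebra.IsUnramifiedAt.exists_hasStandardEtaleSurjectionOn (R := R) Q
  let SQ := Localization.AtPrime Q
  let A := Localization.AtPrime p
  have hfu : IsUnit (algebraMap S SQ f) := IsLocalization.map_units SQ (⟨f, hf⟩ : Q.primeCompl)
  let ι : Localization.Away f →ₐ[R] SQ :=
    { IsLocalization.Away.lift (g := algebraMap S SQ) f hfu with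
      commutes' := fun r => by
        show IsLocalization.Away.lift (g := algebraMap S SQ) f hfu (algebraMap R (Localization.Away f) r) = _
        rw [IsScalarTower.algebraMap_apply R S (Localization.Away f), IsLocalization.Away.lift_eq,
          ← IsScalarTower.algebraMap_apply] }
  let χ : P.Ring →ₐ[R] SQ := ι.comp φ
  let q' : Ideal P.Ring := (IsLocalRing.maximalIdeal SQ).comap χ.toRingHom
  haveI hq' : q'.IsPrime := Ideal.comap_isPrime _ _
  have hp : q'.comap (algebraMap R P.Ring) = p := by
    rw [Ideal.comap_comap, AlgHom.toRingHom_eq_coe, AlgHom.comp_algebraMap, IsScalarTower.algebraMap_eq R S SQ,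
      ← Ideal.comap_comap]
    exact (congrArg (Ideal.comap (algebraMap R S)) (IsLocalization.AtPrime.comap_maximalIdeal SQ Q)).trans hpQ.symm
  let L := Localization.AtPrime q'
  obtain ⟨hLg, hLd⟩ := atPrime_of_etale R P.Ring p q' hp hA
  haveI := hLd hd
  let ψ : L →ₐ[R] SQ := IsLocalization.liftAlgHom (M := q'.primeCompl) (f := χ) fun e => by
    exact IsLocalRing.notMem_maximalIdeal.1 e.2
  have hψ : ∀ e, ψ (algebraMap P.Ring L e) = χ e := fun e => IsLocalization.lift_eq _ e
  have hι : ∀ s, ι (algebraMap S (Localization.Away f) s) = algebraMap S SQ s :=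
    fun s => IsLocalization.Away.lift_eq f hfu s
  have hψs : Function.Surjective ψ := by
    intro z
    obtain ⟨s, t, rfl⟩ := IsLocalization.exists_mk'_eq Q.primeCompl z
    obtain ⟨e1, he1⟩ := hφ (algebraMap S (Localization.Away f) s)
    obtain ⟨e2, he2⟩ := hφ (algebraMap S (Localization.Away f) t)
    have hχ1 : χ e1 = algebraMap S SQ s := (congrArg ι he1).trans (hι s)
    have hχ2 : χ e2 = algebraMap S SQ t := (congrArg ι he2).trans (hι t)
    have he2' : e2 ∉ q' := fun h => by
      have h2 : χ e2 ∈ IsLocalRing.maximalIdeal SQ := h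
      rw [hχ2] at h2
      exact h2 (IsLocalization.map_units SQ t)
    refine ⟨IsLocalization.mk' L e1 (⟨e2, he2'⟩ : q'.primeCompl), ?_⟩
    rw [IsLocalization.eq_mk'_iff_mul_eq, ← hχ1, ← hχ2, ← hψ, ← hψ, ← map_mul]
    exact congrArg ψ (IsLocalization.mk'_spec L e1 (⟨e2, he2'⟩ : q'.primeCompl))
  let lr : A →+* L := Localization.localRingHom p q' (algebraMap R P.Ring) hp.symm
  letI : Algebra A L := lr.toAlgebra
  haveI : IsScalarTower R A L := IsScalarTower.of_algebraMap_eq fun r => by
    rw [IsScalarTower.algebraMap_apply R P.Ring L]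
    exact (Localization.localRingHom_to_map p q' (algebraMap R P.Ring) hp.symm r).symm
  have hcomp : ψ.toRingHom.comp lr = Localization.localRingHom p Q (algebraMap R S) hpQ :=
    IsLocalization.ringHom_ext p.primeCompl (RingHom.ext fun r => by
      show ψ (lr (algebraMap R A r)) = Localization.localRingHom p Q (algebraMap R S) hpQ (algebraMap R A r)
      rw [Localization.localRingHom_to_map, Localization.localRingHom_to_map, hψ, AlgHom.commutes,
        IsScalarTower.algebraMap_apply R S SQ])
  have hψA : ∀ a : A, ψ (lr a) = 0 → a = 0 := fun a ha => hinj (by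
    rw [map_zero, ← hcomp]; exact ha)
  haveI := hd
  haveI : Algebra.QuasiFinite R L := Algebra.QuasiFinite.of_isLocalization (R := R) (S := P.Ring) q'.primeCompl
  have hbot : RingHom.ker ψ.toRingHom = ⊥ :=
    eq_bot_of_forall (R := R) (A := A)
      ((injective_iff_map_eq_zero _).2 fun a ha => hψA a (by rw [show lr a = 0 from ha, map_zero])) _
      fun a ha => hψA a ha
  have hψi : Function.Injective ψ := (RingHom.injective_iff_ker_eq_bot ψ.toRingHom).2 hbot
  let e : L ≃ₐ[R] SQ := AlgEquiv.ofBijective ψ ⟨hψi, hψs⟩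
  haveI : Algebra.FormallySmooth P.Ring L := Algebra.FormallySmooth.of_isLocalization q'.primeCompl
  haveI : Algebra.FormallySmooth R L := Algebra.FormallySmooth.comp R P.Ring L
  refine ⟨f, hf, P, φ, q', hq', hφ, fun x hx => hψi ?_, hp, fun x s k hxs => ?_, e.symm.toMulEquiv.isDomain _,
    isGeomUnibranch_of_ringEquiv e.toRingEquiv hLg, Algebra.FormallySmooth.of_equiv e⟩
  · rw [map_zero, hψ]
    show ι (φ x) = 0
    rw [hx, map_zero]
  · have h1 := congrArg ι hxs
    rw [map_mul, hι, hι] at h1
    change χ x * _ = _ at h1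
    rw [← IsLocalization.AtPrime.to_map_mem_maximal_iff SQ Q s, ← h1]
    show _ ↔ χ x ∈ IsLocalRing.maximalIdeal SQ
    refine Ideal.mul_unit_mem_iff_mem _ ?_
    rw [map_pow]
    exact hfu.pow k

end Groth.Agent.UnibEtale
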