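import Groth.Agent.IntBC.UnibranchField
import Groth.Agent.IntBC.UnibranchDescent
import Groth.Agent.EtStalk.Normal
import Groth.Agent.Hensel.EtaleReduced
import Mathlib

/-! Geometric unibranchness is preserved by etale algebras; unramified algebras over geometrically
unibranch domains. -/

set_option autoImplicit false
universe u

open scoped TensorProduct

namespace Groth.Agent.UnibEtale

/-- Etale algebras over a geometrically unibranch local ring. -/
theorem branch_of_etale (A S : Type u) [CommRing A] [IsLocalRing A] [CommRing S] [Algebra A S] [Algebra.Etale A S]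
    (hA : CAlg2.IsGeomUnibranch A) (q : Ideal S) [q.IsPrime]
    (hq : q.comap (algebraMap A S) = IsLocalRing.maximalIdeal A) :
    CAlg2.IsGeomUnibranch (Localization.AtPrime q) ∧ (IsDomain A → IsDomain (Localization.AtPrime q)) := by
  obtain ⟨D, _, _, _, _, hD, hker, hint, hins⟩ := IntBC.branch_of_isGeomUnibranch hA
  haveI := hint
  haveI := hD
  letI : Algebra D (S ⊗[A] D) := Algebra.TensorProduct.rightAlgebra
  haveI : Algebra.Etale D (S ⊗[A] D) := Algebra.Etale.of_equiv
    (AlgEquiv.ofRingEquiv (f := (Algebra.TensorProduct.comm A D S).toRingEquiv)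
      (fun d => by simp [Algebra.TensorProduct.algebraMap_apply, Algebra.TensorProduct.right_algebraMap_apply]) :
        D ⊗[A] S ≃ₐ[D] S ⊗[A] D)
  have hT : ∀ (Q : Ideal (S ⊗[A] D)) [Q.IsPrime],
      IsDomain (Localization.AtPrime Q) ∧ IsIntegrallyClosed (Localization.AtPrime Q) := fun Q _ => by
    haveI := WLocalLib.weaklyEtale_localization Q.primeCompl (Localization.AtPrime Q)
    haveI : Algebra.WeaklyEtale D (Localization.AtPrime Q) :=
      Algebra.WeaklyEtale.trans D (S ⊗[A] D) (Localization.AtPrime Q)
    exact EtStalk.normal_of_weaklyEtale_local D (Localization.AtPrime Q)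
  have hbr : IntBC.Branch (Localization.AtPrime q) :=
    IntBC.branch_baseChange D hker hins S q hq fun Q _ _ =>
      haveI := (hT Q).1; haveI := (hT Q).2; IntBC.branch_of_normal _
  have hg := IntBC.isGeomUnibranch_of_branch hbr
  refine ⟨hg, fun hAdom => ?_⟩
  haveI := hAdom
  haveI : IsDomain (CAlg2.red (Localization.AtPrime q)) := hg.1.1
  haveI : IsReduced (S ⊗[A] D) := Hensel.isReduced_of_etale D (S ⊗[A] D)
  have hinjD : Function.Injective (algebraMap A D) := (injective_iff_map_eq_zero _).mpr fun a ha =>
    (hker a ha).eq_zero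
  haveI : IsReduced S :=
    isReduced_of_injective (Algebra.TensorProduct.includeLeft (R := A) (S := A) (A := S) (B := D))
      (Algebra.TensorProduct.includeLeft_injective hinjD)
  haveI : IsReduced (Localization.AtPrime q) :=
    isReduced_localizationPreserves q.primeCompl _ inferInstance
  have hbot : nilradical (Localization.AtPrime q) = ⊥ := nilradical_eq_zero _
  exact MulEquiv.isDomain _ ((RingEquiv.quotientBot (Localization.AtPrime q)).symm.trans
    (Ideal.quotEquivOfEq hbot.symm)).toMulEquiv

theorem isGeomUnibranch_of_ringEquiv {A A' : Type u} [CommRing A] [CommRing A'] [IsLocalRing A] [IsLocalRing A']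
    (e : A ≃+* A') (h : CAlg2.IsGeomUnibranch A) : CAlg2.IsGeomUnibranch A' :=
  IntBC.isGeomUnibranch_of_branch (IntBC.Branch.of_ringEquiv e (IntBC.branch_of_isGeomUnibranch h))

/-- The same over an arbitrary base, at a prime. -/
theorem atPrime_of_etale (R S : Type u) [CommRing R] [CommRing S] [Algebra R S] [Algebra.Etale R S]
    (p : Ideal R) [p.IsPrime] (q : Ideal S) [q.IsPrime] (hpq : q.comap (algebraMap R S) = p)
    (hA : CAlg2.IsGeomUnibranch (Localization.AtPrime p)) :
    CAlg2.IsGeomUnibranch (Localization.AtPrime q) ∧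
      (IsDomain (Localization.AtPrime p) → IsDomain (Localization.AtPrime q)) := by
  let A := Localization.AtPrime p
  let M := Algebra.algebraMapSubmonoid S p.primeCompl
  let S' := Localization M
  haveI : Algebra.IsPushout R A S S' := (Algebra.isPushout_of_isLocalization p.primeCompl A S S').symm
  haveI : Algebra.Etale A S' := Algebra.Etale.of_equiv (Algebra.IsPushout.equiv R A S S')
  have hdisj : Disjoint (M : Set S) (q : Set S) := by
    rw [Set.disjoint_left]
    rintro _ ⟨r, hr, rfl⟩ hrq
    exact hr (hpq ▸ hrq)
  let q' : Ideal S' := q.map (algebraMap S S')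
  haveI hq'p : q'.IsPrime := IsLocalization.isPrime_of_isPrime_disjoint M S' q ‹_› hdisj
  have hq'q : q'.comap (algebraMap S S') = q := IsLocalization.comap_map_of_isPrime_disjoint M S' ‹q.IsPrime› hdisj
  have hq' : q'.comap (algebraMap A S') = IsLocalRing.maximalIdeal A := by
    rw [← IsLocalization.map_comap p.primeCompl A (q'.comap (algebraMap A S')), Ideal.under, Ideal.comap_comap,
      ← IsScalarTower.algebraMap_eq, IsScalarTower.algebraMap_eq R S S', ← Ideal.comap_comap, hq'q, hpq,
      Localization.AtPrime.map_eq_maximalIdeal]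
  obtain ⟨h1, h2⟩ := branch_of_etale A S' hA q' hq'
  haveI : IsLocalization.AtPrime (Localization.AtPrime q') q := by
    have := IsLocalization.isLocalization_isLocalization_atPrime_isLocalization M (Localization.AtPrime q') q'
    simpa only [hq'q] using this
  let e : Localization.AtPrime q' ≃+* Localization.AtPrime q :=
    (IsLocalization.algEquiv q.primeCompl (Localization.AtPrime q') (Localization.AtPrime q)).toRingEquiv
  exact ⟨isGeomUnibranch_of_ringEquiv e h1, fun hd => haveI := h2 hd; e.symm.toMulEquiv.isDomain _⟩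

/-- Ideals of a quasi-finite domain meeting the base trivially are zero. -/
theorem eq_bot_of_forall {R A L : Type u} [CommRing R] [CommRing A] [IsDomain A] [CommRing L] [IsDomain L]
    [Algebra R A] [Algebra R L] [Algebra A L] [IsScalarTower R A L] [Algebra.QuasiFinite R L]
    (hinj : Function.Injective (algebraMap A L)) (J : Ideal L)
    (hJ : ∀ a : A, algebraMap A L a ∈ J → a = 0) : J = ⊥ := by
  let T := (nonZeroDivisors A).map (algebraMap A L)
  have hdisj : Disjoint (J : Set L) (T : Set L) := by
    rw [Set.disjoint_right]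
    rintro _ ⟨a, ha, rfl⟩ haJ
    exact nonZeroDivisors.ne_zero ha (hJ a haJ)
  obtain ⟨P, hP, hJP, hPT⟩ := Ideal.exists_le_prime_disjoint J T hdisj
  have hPA : ∀ a : A, algebraMap A L a ∈ P → a = 0 := fun a ha => by_contra fun h =>
    Set.disjoint_left.1 hPT ha ⟨a, mem_nonZeroDivisors_of_ne_zero h, rfl⟩
  refine le_bot_iff.1 (hJP.trans (Algebra.QuasiFinite.eq_of_le_of_under_eq (R := R) ⊥ P bot_le ?_).ge)
  ext r
  simp only [Ideal.mem_comap, Ideal.under, Submodule.mem_bot, IsScalarTower.algebraMap_apply R A L]
  exact ⟨fun h => h ▸ P.zero_mem, fun h => by rw [hPA _ h, map_zero]⟩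

end Groth.Agent.UnibEtale
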