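import Groth.Agent.UnibEtale.Surj
import Groth.Agent.StalkLoc7.Basic
import Mathlib

/-! Unramified morphisms over geometrically unibranch points. -/

set_option autoImplicit false
set_option backward.isDefEq.respectTransparency.types false
universe u

open AlgebraicGeometry CategoryTheory

namespace Groth.Agent.UnibEtale

variable {X Y : Scheme.{u}} (f : X ⟶ Y)

theorem flat_injective_stalkMap (x : X) (h : (f.stalkMap x).hom.Flat) : Function.Injective (f.stalkMap x) := by
  letI := (f.stalkMap x).hom.toAlgebra
  haveI : Module.Flat (Y.presheaf.stalk (f x)) (X.presheaf.stalk x) := h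
  haveI : IsLocalHom (algebraMap (Y.presheaf.stalk (f x)) (X.presheaf.stalk x)) := f.toLRSHom.prop x
  haveI : Module.FaithfullyFlat (Y.presheaf.stalk (f x)) (X.presheaf.stalk x) :=
    Module.FaithfullyFlat.of_flat_of_isLocalHom
  exact FaithfulSMul.algebraMap_injective (Y.presheaf.stalk (f x)) (X.presheaf.stalk x)

/-- An unramified morphism injective on local rings at a geometrically unibranch integral point is
smooth there. -/
theorem smooth_stalk [LocallyOfFiniteType f] (x : X) (hu : (f.stalkMap x).hom.FormallyUnramified)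
    (hinj : Function.Injective (f.stalkMap x)) (hd : IsDomain (Y.presheaf.stalk (f x)))
    (hA : CAlg2.IsGeomUnibranch (Y.presheaf.stalk (f x))) :
    (f.stalkMap x).hom.FormallySmooth := by
  obtain ⟨W, hW, hxW, -⟩ := exists_isAffineOpen_mem_and_subset (x := f x) (U := ⊤) trivial
  obtain ⟨V, hV, hxV, hVW⟩ := exists_isAffineOpen_mem_and_subset (x := x) (U := f ⁻¹ᵁ W) hxW
  have hFT := f.finiteType_appLE hW hV hVW
  algebraize [(f.appLE W V hVW).hom]
  let p := (hW.primeIdealOf ⟨f x, hVW hxV⟩).asIdeal
  let q := (hV.primeIdealOf ⟨x, hxV⟩).asIdeal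
  have : q.LiesOver p :=
    ⟨congr($(IsAffineOpen.comap_primeIdealOf_appLE W hW V hV hVW hxV).1).symm⟩
  let := Localization.AtPrime.algebraOfLiesOver p q
  have h1 : Algebra.FormallyUnramified (Localization.AtPrime p) (Localization.AtPrime q) := by
    rw [← RingHom.formallyUnramified_algebraMap]
    exact (RingHom.FormallyUnramified.respectsIso.arrow_mk_iso_iff
      (IsAffineOpen.arrowStalkMapIso f W hW V hV hVW hxV)).mp hu
  haveI : Algebra.IsUnramifiedAt Γ(Y, W) q :=
    Algebra.FormallyUnramified.comp _ (Localization.AtPrime p) _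
  have hinj' : Function.Injective (Localization.localRingHom p q (algebraMap Γ(Y, W) Γ(X, V)) (q.over_def p)) :=
    (RingHom.injective_respectsIso.arrow_mk_iso_iff
      (IsAffineOpen.arrowStalkMapIso f W hW V hV hVW hxV)).mp hinj
  obtain ⟨-, -, -, -, -, -, -, -, -, -, -, -, hfs⟩ := unramified_point Γ(Y, W) Γ(X, V) q p (q.over_def p)
    (haveI := hd; (stalkEquiv hW (hVW hxV)).symm.toMulEquiv.isDomain _)
    (isGeomUnibranch_of_ringEquiv (stalkEquiv hW (hVW hxV)) hA) hinj'
  rw [formallySmooth_stalkMap_iff W hW V hV hVW hxV]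
  exact hfs

end Groth.Agent.UnibEtale
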