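import Groth.Agent.UnibEtale.Nhd
import Groth.Agent.UnibEtale.Comp
import Groth.Agent.StalkLoc7.Basic
import Mathlib

/-! Rational sections of separated unramified morphisms extend over geometrically unibranch points. -/

set_option autoImplicit false
set_option backward.isDefEq.respectTransparency.types false
universe u

open AlgebraicGeometry CategoryTheory

namespace Groth.Agent.UnibEtale

theorem fromSpecStalkOfMem_closedPoint {Z : Scheme.{u}} (U : Z.Opens) (z : Z) (hz : z ∈ U) :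
    U.fromSpecStalkOfMem z hz (IsLocalRing.closedPoint (Z.presheaf.stalk z)) = ⟨z, hz⟩ := by
  apply U.ι.injective
  show (U.fromSpecStalkOfMem z hz ≫ U.ι) (IsLocalRing.closedPoint (Z.presheaf.stalk z)) = z
  rw [Scheme.Opens.fromSpecStalkOfMem_ι]
  exact Scheme.fromSpecStalk_closedPoint

variable {X Y : Scheme.{u}} (f : X ⟶ Y)

/-- Etale neighbourhoods from a chart with integral ring. -/
theorem etale_nhd_of_chart [LocallyOfFiniteType f] [FormallyUnramified f] (x : X) {W : Y.Opens}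
    (hW : IsAffineOpen W) (hxW : f x ∈ W) [IsDomain Γ(Y, W)]
    (hY : CAlg2.IsGeomUnibranch (Y.presheaf.stalk (f x))) (hinj : Function.Injective (f.stalkMap x)) :
    ∃ U : X.Opens, x ∈ U ∧ Etale (U.ι ≫ f) := by
  obtain ⟨V, hV, hxV, hVW⟩ := exists_isAffineOpen_mem_and_subset (x := x) (U := f ⁻¹ᵁ W) hxW
  have hFT := f.finiteType_appLE hW hV hVW
  algebraize [(f.appLE W V hVW).hom]
  let p := (hW.primeIdealOf ⟨f x, hVW hxV⟩).asIdeal
  let q := (hV.primeIdealOf ⟨x, hxV⟩).asIdeal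
  have : q.LiesOver p :=
    ⟨congr($(IsAffineOpen.comap_primeIdealOf_appLE W hW V hV hVW hxV).1).symm⟩
  let := Localization.AtPrime.algebraOfLiesOver p q
  have h1 : Algebra.FormallyUnramified (Localization.AtPrime p) (Localization.AtPrime q) := by
    rw [← RingHom.formallyUnramified_algebraMap]
    exact (RingHom.FormallyUnramified.respectsIso.arrow_mk_iso_iff
      (IsAffineOpen.arrowStalkMapIso f W hW V hV hVW hxV)).mp (FormallyUnramified.stalkMap f x)
  haveI : Algebra.IsUnramifiedAt Γ(Y, W) q :=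
    Algebra.FormallyUnramified.comp _ (Localization.AtPrime p) _
  have hinj' : Function.Injective (Localization.localRingHom p q (algebraMap Γ(Y, W) Γ(X, V)) (q.over_def p)) :=
    (RingHom.injective_respectsIso.arrow_mk_iso_iff
      (IsAffineOpen.arrowStalkMapIso f W hW V hV hVW hxV)).mp hinj
  obtain ⟨r, hr, he⟩ := exists_away_etale Γ(Y, W) Γ(X, V) q p (q.over_def p)
    (isGeomUnibranch_of_ringEquiv (stalkEquiv hW (hVW hxV)) hY) hinj'
  have hle : X.basicOpen r ≤ f ⁻¹ᵁ W := (X.basicOpen_le r).trans hVW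
  refine ⟨X.basicOpen r, StalkLoc7.mem_basicOpen hV hxV hr, ?_⟩
  haveI : IsAffine W.toScheme := hW
  haveI : IsAffine (X.basicOpen r).toScheme := hV.basicOpen r
  rw [← Scheme.Hom.resLE_comp_ι f hle]
  haveI : Etale (f.resLE W (X.basicOpen r) hle) := by
    rw [HasRingHomProperty.iff_of_isAffine (P := @Etale)]
    refine (RingHom.Etale.respectsIso.arrow_mk_iso_iff
      (arrowResLEAppIso f W (X.basicOpen r) hle)).mpr ?_
    have := hV.isLocalization_basicOpen r
    convert RingHom.Etale.respectsIso.1 _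
      (IsLocalization.algEquiv (.powers r) _ Γ(X, X.basicOpen r)).toRingEquiv he
    ext a
    exact StalkLoc7.appLE_eq f hVW r a
  infer_instance

/-- Fractions in a domain chart. -/
theorem frac_chart {W : Y.Opens} (hW : IsAffineOpen W) [IsDomain Γ(Y, W)] {η y : Y} (hη : η ∈ W) (hy : y ∈ W)
    (h : η ⤳ y) : Function.Injective (Y.presheaf.stalkSpecializes h) ∧
      ∀ z : Y.presheaf.stalk η, ∃ a s : Y.presheaf.stalk y, IsUnit (Y.presheaf.stalkSpecializes h s) ∧
        z * Y.presheaf.stalkSpecializes h s = Y.presheaf.stalkSpecializes h a := by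
  letI := TopCat.Presheaf.algebra_section_stalk Y.presheaf (⟨η, hη⟩ : W)
  letI := TopCat.Presheaf.algebra_section_stalk Y.presheaf (⟨y, hy⟩ : W)
  haveI := hW.isLocalization_stalk ⟨η, hη⟩
  haveI := hW.isLocalization_stalk ⟨y, hy⟩
  have hg : ∀ r, Y.presheaf.stalkSpecializes h (algebraMap Γ(Y, W) (Y.presheaf.stalk y) r) =
      algebraMap Γ(Y, W) (Y.presheaf.stalk η) r := fun r =>
    ConcreteCategory.congr_hom (TopCat.Presheaf.germ_stalkSpecializes Y.presheaf hy h) r
  refine ⟨(injective_iff_map_eq_zero _).2 fun a ha => ?_, fun z => ?_⟩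
  · obtain ⟨r, t, rfl⟩ := IsLocalization.exists_mk'_eq (hW.primeIdealOf ⟨y, hy⟩).asIdeal.primeCompl a
    have h1 : Y.presheaf.stalkSpecializes h (algebraMap Γ(Y, W) (Y.presheaf.stalk y) r) = 0 := by
      rw [← IsLocalization.mk'_spec (Y.presheaf.stalk y) r t, map_mul, ha, zero_mul]
    rw [hg] at h1
    have h2 : r = 0 := IsLocalization.injective (Y.presheaf.stalk η)
      (hW.primeIdealOf ⟨η, hη⟩).asIdeal.primeCompl_le_nonZeroDivisors (h1.trans (map_zero _).symm)
    rw [h2, IsLocalization.mk'_zero]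
  · obtain ⟨r, t, rfl⟩ := IsLocalization.exists_mk'_eq (hW.primeIdealOf ⟨η, hη⟩).asIdeal.primeCompl z
    refine ⟨algebraMap Γ(Y, W) _ r, algebraMap Γ(Y, W) _ (t : Γ(Y, W)), ?_, ?_⟩
    · rw [hg]; exact IsLocalization.map_units _ t
    · rw [hg, hg, IsLocalization.mk'_spec]

/-- A birational flat quasi-finite local extension of local domains is trivial. -/
theorem bijective_of_birational (A B K : Type u) [CommRing A] [CommRing B] [CommRing K] [Nontrivial K] [IsLocalRing A]
    [IsLocalRing B] [IsDomain A] [IsDomain B] [Algebra A B] [IsLocalHom (algebraMap A B)] [Module.Flat A B]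
    [Algebra.QuasiFinite A B] (τ : A →+* K) (ψ : B →+* K) (hτ : Function.Injective τ)
    (hc : ψ.comp (algebraMap A B) = τ) (hfrac : ∀ z, ∃ a s, IsUnit (τ s) ∧ z * τ s = τ a) :
    Function.Bijective (algebraMap A B) := by
  haveI : Module.FaithfullyFlat A B := Module.FaithfullyFlat.of_flat_of_isLocalHom
  have hinj : Function.Injective (algebraMap A B) := FaithfulSMul.algebraMap_injective A B
  have hψ : RingHom.ker ψ = ⊥ := eq_bot_of_forall (R := A) hinj _ fun a ha => by
    apply hτ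
    rw [← hc, map_zero]
    exact ha
  have hψi := (RingHom.injective_iff_ker_eq_bot ψ).2 hψ
  refine ⟨hinj, fun b => ?_⟩
  obtain ⟨a, s, hs, h⟩ := hfrac (ψ b)
  rw [← hc] at hs h
  simp only [RingHom.comp_apply, ← map_mul] at hs h
  have h1 := hψi h
  have h3 : a ∈ Ideal.span {s} := by
    rw [← Ideal.comap_map_eq_self_of_faithfullyFlat (B := B) (Ideal.span {s}), Ideal.mem_comap, ← h1,
      Ideal.map_span, Set.image_singleton]
    exact Ideal.mul_mem_left _ _ (Ideal.mem_span_singleton_self _)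
  obtain ⟨c, rfl⟩ := Ideal.mem_span_singleton'.1 h3
  refine ⟨c, (mul_right_cancel₀ ?_ (h1.trans (map_mul _ c s))).symm⟩
  intro h0
  rw [h0, map_zero] at hs
  exact not_isUnit_zero hs

/-- The extension of a rational section to a geometrically unibranch point in the closure of its image. -/
theorem exists_extension [IsSeparated f] [LocallyOfFiniteType f] [FormallyUnramified f]
    (W₀ : Y.Opens) [IsIntegral W₀.toScheme] (U : Y.Opens) (hU : ((U : Set Y) ∩ W₀).Nonempty)
    (u : (U : Scheme.{u}) ⟶ X) (hu : u ≫ f = U.ι) (x : X) (hxW₀ : f x ∈ W₀)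
    (hY : CAlg2.IsGeomUnibranch (Y.presheaf.stalk (f x))) (hx : x ∈ closure (Set.range u)) :
    ∃ (V : Y.Opens) (v : (V : Scheme.{u}) ⟶ X) (hxV : f x ∈ V), v ≫ f = V.ι ∧ v ⟨f x, hxV⟩ = x ∧
      Y.homOfLE (inf_le_left : U ⊓ V ≤ U) ≫ u = Y.homOfLE (inf_le_right : U ⊓ V ≤ V) ≫ v := by
  let η : Y := W₀.ι (genericPoint W₀.toScheme)
  have hηW₀ : η ∈ W₀ := (genericPoint W₀.toScheme).2
  have hgen : ∀ w ∈ W₀, η ⤳ w := fun w hw =>
    (genericPoint_specializes (α := W₀.toScheme) ⟨w, hw⟩).map W₀.ι.continuous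
  have hηU : η ∈ U := by
    obtain ⟨w, hwU, hwW⟩ := hU
    exact (hgen w hwW).mem_open U.2 hwU
  obtain ⟨W, hW, hxW, hWW₀⟩ := exists_isAffineOpen_mem_and_subset (x := f x) (U := W₀) hxW₀
  haveI : Nonempty W.toScheme := ⟨⟨f x, hxW⟩⟩
  haveI : IsIntegral W.toScheme := isIntegral_of_isOpenImmersion (Y.homOfLE hWW₀)
  haveI : IsDomain Γ(Y, W) := W.topIso.commRingCatIsoToRingEquiv.symm.toMulEquiv.isDomain _
  have hh : η ⤳ f x := hgen _ hxW₀
  obtain ⟨hτ, hfrac⟩ := frac_chart hW (hh.mem_open W.2 hxW) hxW hh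
  haveI : IsDomain (Y.presheaf.stalk (f x)) := by
    letI := TopCat.Presheaf.algebra_section_stalk Y.presheaf (⟨f x, hxW⟩ : W)
    haveI := hW.isLocalization_stalk ⟨f x, hxW⟩
    exact IsLocalization.isDomain_of_le_nonZeroDivisors _ (hW.primeIdealOf ⟨f x, hxW⟩).asIdeal.primeCompl_le_nonZeroDivisors
  -- the section on the generic point
  let K := Y.presheaf.stalk η
  let q : Spec K ⟶ X := U.fromSpecStalkOfMem η hηU ≫ u
  have hqf : q ≫ f = Y.fromSpecStalk η := by
    simp only [q, Category.assoc, hu, Scheme.Opens.fromSpecStalkOfMem_ι]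
  have hqc : q (IsLocalRing.closedPoint K) = u ⟨η, hηU⟩ := by
    show u _ = u _
    exact congrArg u (fromSpecStalkOfMem_closedPoint U η hηU)
  have hzx : q (IsLocalRing.closedPoint K) ⤳ x := by
    rw [hqc, specializes_iff_mem_closure]
    refine closure_minimal ?_ isClosed_closure
      ((isOpen_univ.inter (W₀.2.preimage f.continuous)).inter_closure ⟨⟨trivial, hxW₀⟩, hx⟩)
    rintro _ ⟨⟨-, hw⟩, ⟨w, rfl⟩⟩
    have hfw : (u ≫ f) w = U.ι w := by rw [hu]
    have hw' : η ⤳ U.ι w := hgen _ (hfw ▸ hw)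
    exact specializes_iff_mem_closure.1
      ((Topology.IsInducing.subtypeVal.specializes_iff (x := (⟨η, hηU⟩ : U)) (y := w)).1 hw' |>.map u.continuous)
  let ψ : X.presheaf.stalk x ⟶ K := X.presheaf.stalkSpecializes hzx ≫ Scheme.stalkClosedPointTo q
  have hψq : Spec.map ψ ≫ X.fromSpecStalk x = q := by
    simp only [ψ, Spec.map_comp, Category.assoc, Scheme.SpecMap_stalkSpecializes_fromSpecStalk,
      Scheme.Spec_stalkClosedPointTo_fromSpecStalk]
  have hψc : f.stalkMap x ≫ ψ = Y.presheaf.stalkSpecializes hh := by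
    apply Spec.map_injective
    rw [← cancel_mono (Y.fromSpecStalk (f x))]
    simp only [Spec.map_comp, Category.assoc, Scheme.SpecMap_stalkMap_fromSpecStalk,
      Scheme.SpecMap_stalkSpecializes_fromSpecStalk]
    rw [reassoc_of% hψq, hqf]
  have hinj : Function.Injective (f.stalkMap x) := fun a b hab => hτ (by
    rw [← hψc]
    exact congrArg ψ hab)
  obtain ⟨U₁, hxU₁, hU₁⟩ := etale_nhd_of_chart f x hW hxW hY hinj
  obtain ⟨-, hdom⟩ := stalk_of_etale f x U₁ hxU₁ hY
  haveI := hdom inferInstance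
  letI := (f.stalkMap x).hom.toAlgebra
  haveI : IsLocalHom (algebraMap (Y.presheaf.stalk (f x)) (X.presheaf.stalk x)) :=
    inferInstanceAs <| IsLocalHom (f.stalkMap x).hom
  haveI : Module.Flat (Y.presheaf.stalk (f x)) (X.presheaf.stalk x) :=
    (StalkLoc7.stalkMap_flat_openImmersion_comp f U₁ ⟨x, hxU₁⟩).2 (Flat.stalkMap _ _)
  haveI : Algebra.EssFiniteType (Y.presheaf.stalk (f x)) (X.presheaf.stalk x) := by
    rw [← RingHom.essFiniteType_algebraMap, RingHom.algebraMap_toAlgebra]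
    exact LocallyOfFiniteType.stalkMap f x
  haveI : Algebra.FormallyUnramified (Y.presheaf.stalk (f x)) (X.presheaf.stalk x) :=
    FormallyUnramified.stalkMap f x
  haveI : Nontrivial K := inferInstance
  have hbij : Function.Bijective (f.stalkMap x) :=
    bijective_of_birational (Y.presheaf.stalk (f x)) (X.presheaf.stalk x) K
      (Y.presheaf.stalkSpecializes hh).hom ψ.hom hτ
      (congrArg CommRingCat.Hom.hom hψc) hfrac
  haveI : IsIso (f.stalkMap x) := (ConcreteCategory.isIso_iff_bijective _).2 hbij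
  haveI : Y.IsGermInjectiveAt (f x) := by
    let xw : W₀.toScheme := ⟨f x, hxW₀⟩
    show Y.IsGermInjectiveAt (W₀.ι xw)
    exact (isGermInjectiveAt_iff_of_isOpenImmersion (f := W₀.ι) (x := xw)).2 inferInstance
  obtain ⟨U', hxU', v, hv1, hv2⟩ := spread_out_of_isGermInjective (𝟙 Y) f (x := f x) (y := x)
    (by simp) (inv (f.stalkMap x)) (by simp)
  rw [Category.comp_id] at hv2
  let V := U' ⊓ W₀
  let v' : V.toScheme ⟶ X := Y.homOfLE (inf_le_left : V ≤ U') ≫ v
  refine ⟨V, v', ⟨hxU', hxW₀⟩, by simp [v', hv2], ?_, ?_⟩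
  · have h0 : (Y.homOfLE (inf_le_left : V ≤ U')) ⟨f x, hxU', hxW₀⟩ = ⟨f x, hxU'⟩ := by
      apply U'.ι.injective
      show (Y.homOfLE (inf_le_left : V ≤ U') ≫ U'.ι) _ = f x
      rw [Scheme.homOfLE_ι]
      rfl
    show v ((Y.homOfLE (inf_le_left : V ≤ U')) ⟨f x, hxU', hxW₀⟩) = x
    rw [h0]
    have h1 : (Spec.map (inv (f.stalkMap x)) ≫ X.fromSpecStalk x) (IsLocalRing.closedPoint (Y.presheaf.stalk (f x))) = x := by
      show X.fromSpecStalk x (PrimeSpectrum.comap (inv (f.stalkMap x)).hom (IsLocalRing.closedPoint _)) = x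
      rw [IsLocalRing.comap_closedPoint]
      exact Scheme.fromSpecStalk_closedPoint
    refine Eq.trans ?_ h1
    rw [hv1]
    exact congrArg v (fromSpecStalkOfMem_closedPoint U' (f x) hxU').symm
  · haveI : IsReduced W₀.toScheme := inferInstance
    haveI : IsReduced (U ⊓ V).toScheme :=
      isReduced_of_isOpenImmersion (Y.homOfLE (inf_le_right.trans inf_le_right : U ⊓ V ≤ W₀))
    have hηV : η ∈ V := ⟨hh.mem_open U'.2 hxU', hηW₀⟩
    let ι₀ := (U ⊓ V).fromSpecStalkOfMem η ⟨hηU, hηV⟩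
    haveI : IsDominant ι₀ := ⟨fun w => by
      let η' : (U ⊓ V).toScheme := ⟨η, hηU, hηV⟩
      have hmem : η' ∈ Set.range ι₀ :=
        ⟨IsLocalRing.closedPoint (Y.presheaf.stalk η), fromSpecStalkOfMem_closedPoint (U ⊓ V) η ⟨hηU, hηV⟩⟩
      refine closure_mono (Set.singleton_subset_iff.2 hmem) ?_
      rw [← specializes_iff_mem_closure, ← (U ⊓ V).ι.isOpenEmbedding.isInducing.specializes_iff]
      exact hgen _ w.2.2.2⟩
    refine ext_of_isDominant_of_isSeparated f (by simp [v', hv2, hu]) ι₀ ?_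
    have e1 : ι₀ ≫ Y.homOfLE (inf_le_left : U ⊓ V ≤ U) = U.fromSpecStalkOfMem η hηU := by
      rw [← cancel_mono U.ι]; simp [ι₀]
    have e2 : ι₀ ≫ Y.homOfLE (inf_le_right : U ⊓ V ≤ V) ≫ Y.homOfLE (inf_le_left : V ≤ U') =
        Spec.map (Y.presheaf.stalkSpecializes hh) ≫ U'.fromSpecStalkOfMem (f x) hxU' := by
      rw [← cancel_mono U'.ι]; simp [ι₀, Scheme.SpecMap_stalkSpecializes_fromSpecStalk]
    rw [reassoc_of% e1]
    show q = ι₀ ≫ Y.homOfLE _ ≫ Y.homOfLE _ ≫ v
    rw [← hψq, reassoc_of% e2, ← hv1, ← hψc, ← Spec.map_comp_assoc, IsIso.inv_hom_id_assoc]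

end Groth.Agent.UnibEtale
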